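import Cfsg.Agent.H48.C6Three.LocalStep
import Cfsg.Agent.H85.C6.PSLNine
import Cfsg.Agent.H19.Cores
import Cfsg.Agent.H33.ProductFusion.Dihedral
import Cfsg.Agent.H25.PF14.Solvable
import Cfsg.Agent.S0206
import Cfsg.Agent.S0508
import Cfsg.Agent.S0514

/-!
The dihedral fusion pattern does not occur: the normal closure of `z` would be a simple group with
dihedral Sylow `2`-subgroups, hence `PSL₂(9)`, and then elements of order `5` fuse with their squares.
-/

set_option autoImplicit false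

namespace Cfsg.Agent.H48.C6Three

open Subgroup

variable {G : Type*} [Group G] [Finite G]

/-- An involution of a subgroup containing a Sylow `2`-subgroup is conjugate into it. -/
theorem exists_conj_mem_sylow_two (S : Sylow 2 G) (H : Subgroup G) (hS : (S : Subgroup G) ≤ H)
    {t : G} (ht : orderOf t = 2) (htH : t ∈ H) :
    ∃ h ∈ H, h * t * h⁻¹ ∈ (S : Subgroup G) := by
  have ht' : orderOf (⟨t, htH⟩ : ↥H) = 2 := by rw [← Subgroup.orderOf_coe]; exact ht
  obtain ⟨T, hT⟩ := IsPGroup.exists_le_sylow (G := ↥H) (p := 2)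
    (P := zpowers (⟨t, htH⟩ : ↥H))
    (IsPGroup.of_card (n := 1) (by rw [Nat.card_zpowers, ht', pow_one]))
  obtain ⟨g, hg⟩ := MulAction.exists_smul_eq ↥H T (S.subtype hS)
  refine ⟨g, g.2, ?_⟩
  have h := Subgroup.smul_mem_pointwise_smul _ (MulAut.conj g) _ (hT (mem_zpowers _))
  rw [← Sylow.pointwise_smul_def] at h
  have h' : g * ⟨t, htH⟩ * g⁻¹ ∈ ((S.subtype hS : Sylow 2 ↥H) : Subgroup ↥H) := by
    rw [← hg, Sylow.smul_def]
    simpa [MulAut.smul_def, MulAut.conj_apply] using h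
  rw [Sylow.coe_subtype, mem_subgroupOf] at h'
  simpa using h'

/-- An involutory automorphism by conjugation without fixed points is inversion. -/
theorem conj_eq_inv_of_fpf (O : Subgroup G) {u : G} (hu : u * u = 1)
    (hmap : ∀ g ∈ O, u * g * u⁻¹ ∈ O) (hfix : ∀ g ∈ O, u * g = g * u → g = 1) :
    ∀ g ∈ O, u * g * u⁻¹ = g⁻¹ := by
  let φ : ↥O →* ↥O := MonoidHom.mk' (fun g => ⟨u * g.1 * u⁻¹, hmap _ g.2⟩)
    (fun a b => Subtype.ext (by simp [mul_assoc]))
  have huinv : u⁻¹ = u := inv_eq_of_mul_eq_one_right hu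
  have hφ : MonoidHom.FixedPointFree φ := by
    intro g hg
    have h : u * g.1 * u⁻¹ = g.1 := congrArg Subtype.val hg
    exact Subtype.ext (hfix _ g.2 (mul_inv_eq_iff_eq_mul.1 h))
  have h2 : Function.Involutive φ := by
    intro g
    apply Subtype.ext
    change u * (u * g.1 * u⁻¹) * u⁻¹ = g.1
    simp only [← mul_assoc, hu, one_mul]
    rw [mul_assoc, huinv, hu, mul_one]
  intro g hg
  exact congrArg Subtype.val (congrFun (hφ.coe_eq_inv_of_involutive h2) ⟨g, hg⟩)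

/-- Coordinates in the Sylow `2`-subgroup of the dihedral case. -/
structure DihCoords (d : LocalData G) where
  S : Sylow 2 G
  K : Subgroup G
  K_normal : K.Normal
  K_index : K.index = 2
  central : ∀ s ∈ (S : Subgroup G), s * d.z = d.z * s
  conj_z : ∀ u : G, orderOf u = 2 → IsConj d.z u
  m : ℕ
  x : G
  y : G
  x_mem : x ∈ (S : Subgroup G)
  y_mem : y ∈ (S : Subgroup G)
  x_order : orderOf x = 2 ^ (m + 3)
  y_sq : y * y = 1
  y_ne : y ∉ zpowers x
  z_eq : d.z = x ^ (2 ^ (m + 2))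
  yxy : y * x * y⁻¹ = d.z * x⁻¹
  cases_S : ∀ s ∈ (S : Subgroup G), ∃ i : ℕ, s = x ^ i ∨ s = x ^ i * y

/-- The only involution among the powers of an element of order `2 ^ (m + 3)`. -/
theorem pow_eq_one_or_of_sq {x : G} {m : ℕ} (hx : orderOf x = 2 ^ (m + 3)) {j : ℕ}
    (h : x ^ j * x ^ j = 1) : x ^ j = 1 ∨ x ^ j = x ^ (2 ^ (m + 2)) := by
  have h2 : 2 ^ (m + 3) ∣ 2 * j := by
    rw [← hx]
    exact orderOf_dvd_of_pow_eq_one (by rw [two_mul, pow_add, h])
  rw [show 2 ^ (m + 3) = 2 * 2 ^ (m + 2) by ring] at h2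
  obtain ⟨c, rfl⟩ := Nat.dvd_of_mul_dvd_mul_left (by norm_num) h2
  rcases Nat.even_or_odd' c with ⟨e, rfl | rfl⟩
  · left
    rw [show 2 ^ (m + 2) * (2 * e) = 2 ^ (m + 3) * e by ring, pow_mul, ← hx, pow_orderOf_eq_one,
      one_pow]
  · right
    rw [show 2 ^ (m + 2) * (2 * e + 1) = 2 ^ (m + 3) * e + 2 ^ (m + 2) by ring, pow_add, pow_mul,
      ← hx, pow_orderOf_eq_one, one_pow, one_mul]

theorem nonempty_dihCoords {d : LocalData G} (h : d.DihedralCase) : Nonempty (DihCoords d) := by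
  obtain ⟨S, hQ, hqd, hcen, hconj, K, hKn, hKi, -⟩ := h
  obtain ⟨n, hn, hcard, x, y, hx, hy, hyx⟩ := hqd
  obtain ⟨m, rfl⟩ : ∃ m, n = m + 3 := ⟨n - 3, by omega⟩
  rw [show m + 3 - 1 = m + 2 by omega] at hyx
  have hzS : d.z ∈ (S : Subgroup G) := hQ d.z_mem
  set z : ↥(S : Subgroup G) := ⟨d.z, hzS⟩
  have hzc : ∀ s : ↥(S : Subgroup G), s * z = z * s := fun s => Subtype.ext (hcen _ s.2)
  have hz2 : orderOf z = 2 := by rw [← Subgroup.orderOf_coe]; exact d.z_order
  have hzz : z * z = 1 := by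
    have h := pow_orderOf_eq_one z; rwa [hz2, pow_two] at h
  have hz1 : z ≠ 1 := by intro e; rw [e, orderOf_one] at hz2; omega
  have hyy : y * y = 1 := by
    have h := pow_orderOf_eq_one y; rwa [hy, pow_two] at h
  have h4 : 4 ≤ 2 ^ (m + 2) := by
    calc 4 = 2 ^ 2 := by norm_num
      _ ≤ 2 ^ (m + 2) := Nat.pow_le_pow_right (by norm_num) (by omega)
  have h8 : 2 ^ (m + 3) = 2 * 2 ^ (m + 2) := by ring
  have hne : y * x ≠ x * y := by
    intro e
    have hxx : x ^ (2 ^ (m + 2) - 1) = x := by rw [← hyx, e, mul_inv_cancel_right]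
    have hd : x ^ (2 ^ (m + 2) - 2) = 1 := by
      apply mul_right_cancel (b := x)
      rw [one_mul, ← pow_succ, show 2 ^ (m + 2) - 2 + 1 = 2 ^ (m + 2) - 1 by omega, hxx]
    have := Nat.le_of_dvd (by omega) (hx ▸ orderOf_dvd_of_pow_eq_one hd)
    omega
  have hyne : y ∉ zpowers x := by
    rintro ⟨k, rfl⟩
    exact hne (Commute.zpow_self x k).eq
  have hidx : (zpowers x).index = 2 := by
    have := (zpowers x).card_mul_index
    rw [Nat.card_zpowers, hx, hcard, pow_succ 2 (m + 3)] at this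
    exact Nat.eq_of_mul_eq_mul_left (by positivity) this
  have hcases : ∀ s : ↥(S : Subgroup G), ∃ i : ℕ, s = x ^ i ∨ s = x ^ i * y := by
    intro s
    by_cases hs : s ∈ zpowers x
    · obtain ⟨i, hi⟩ := (isOfFinOrder_of_finite x).mem_powers_iff_mem_zpowers.2 hs
      exact ⟨i, Or.inl hi.symm⟩
    · have hsy : s * y ∈ zpowers x :=
        (Subgroup.mul_mem_iff_of_index_two hidx).2 (iff_of_false hs hyne)
      obtain ⟨i, hi⟩ := (isOfFinOrder_of_finite x).mem_powers_iff_mem_zpowers.2 hsy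
      have hi' : x ^ i = s * y := hi
      exact ⟨i, Or.inr (by rw [hi', mul_assoc, hyy, mul_one])⟩
  have hzx : z = x ^ (2 ^ (m + 2)) := by
    obtain ⟨i, hi | hi⟩ := hcases z
    · rcases pow_eq_one_or_of_sq hx (j := i) (by rw [← hi, hzz]) with h | h
      · exact absurd (hi.trans h) hz1
      · exact hi.trans h
    · refine absurd ?_ hne
      have h := hzc x
      rw [hi, ← mul_assoc, ← pow_succ', pow_succ, mul_assoc, mul_assoc] at h
      exact (mul_left_cancel h).symm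
  have hrel : y * x * y⁻¹ = z * x⁻¹ := by
    rw [hyx, hzx, eq_mul_inv_iff_mul_eq, ← pow_succ,
      show 2 ^ (m + 2) - 1 + 1 = 2 ^ (m + 2) by omega]
  exact ⟨{
    S := S, K := K, K_normal := hKn, K_index := hKi, central := hcen, conj_z := hconj, m := m
    x := (x : G), y := (y : G), x_mem := x.2, y_mem := y.2
    x_order := by rw [Subgroup.orderOf_coe]; exact hx
    y_sq := by simpa using congrArg Subtype.val hyy
    y_ne := by
      rintro ⟨k, hk⟩
      exact hyne ⟨k, Subtype.ext (by simpa using hk)⟩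
    z_eq := by simpa [z] using congrArg Subtype.val hzx
    yxy := by simpa [z] using congrArg Subtype.val hrel
    cases_S := fun s hs => by
      obtain ⟨i, hi | hi⟩ := hcases ⟨s, hs⟩
      · exact ⟨i, Or.inl (by simpa using congrArg Subtype.val hi)⟩
      · exact ⟨i, Or.inr (by simpa using congrArg Subtype.val hi)⟩ }⟩

namespace DihCoords

variable {d : LocalData G} (D : DihCoords d)

/-- The normal closure of `z`. -/
def L (_D : DihCoords d) : Subgroup G := normalClosure {d.z}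

instance L_normal : D.L.Normal := normalClosure_normal

/-- Elements of odd order of the centralizer of `z` in the normal closure. -/
def OddC (g : G) : Prop := g ∈ D.L ∧ g * d.z = d.z * g ∧ Odd (orderOf g)

theorem z_mem_L : d.z ∈ D.L := subset_normalClosure (Set.mem_singleton _)

theorem zz : d.z * d.z = 1 := by
  rw [← pow_two, ← d.z_order, pow_orderOf_eq_one]

theorem z_ne_one : d.z ≠ 1 := fun e => by
  have := d.z_order
  rw [e, orderOf_one] at this
  omega

theorem z_mem_S : d.z ∈ (D.S : Subgroup G) := D.z_eq ▸ pow_mem D.x_mem _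

theorem invol_mem_L {u : G} (hu : orderOf u = 2) : u ∈ D.L := by
  obtain ⟨c, hc⟩ := isConj_iff.1 (D.conj_z u hu)
  exact hc ▸ D.L_normal.conj_mem _ D.z_mem_L c

theorem y_order : orderOf D.y = 2 :=
  orderOf_eq_prime (by rw [pow_two]; exact D.y_sq) fun e => D.y_ne (e ▸ one_mem _)

theorem y_inv : D.y⁻¹ = D.y := inv_eq_of_mul_eq_one_right D.y_sq

theorem z_comm_x : Commute d.z D.x := (D.central _ D.x_mem).symm

theorem sq_mem_L : D.x ^ 2 ∈ D.L := by
  have hy : D.y ∈ D.L := D.invol_mem_L D.y_order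
  have h1 : D.x * D.y * D.x⁻¹ * D.y⁻¹ ∈ D.L :=
    mul_mem (D.L_normal.conj_mem _ hy _) (inv_mem hy)
  have h2 : D.y * D.x⁻¹ * D.y⁻¹ = D.x * d.z := by
    have h := congrArg (·⁻¹) D.yxy
    simpa [mul_inv_rev, mul_assoc, inv_eq_of_mul_eq_one_right (zz (d := d))] using h
  rw [show D.x * D.y * D.x⁻¹ * D.y⁻¹ = D.x * (D.y * D.x⁻¹ * D.y⁻¹) by simp [mul_assoc], h2,
    ← mul_assoc, ← pow_two] at h1
  exact (Subgroup.mul_mem_cancel_right _ D.z_mem_L).1 h1

theorem eight_dvd_card (D : DihCoords d) : 8 ∣ Nat.card G :=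
  (Dvd.intro (2 ^ D.m) (by ring)).trans (D.x_order ▸ orderOf_dvd_natCard D.x)

theorem L_le_K : D.L ≤ D.K := by
  haveI := D.K_normal
  haveI : Fact (Nat.Prime 2) := ⟨Nat.prime_two⟩
  have h2 : 2 ∣ Nat.card ↥D.K := by
    have h := D.K.card_mul_index
    rw [D.K_index] at h
    have := D.eight_dvd_card
    omega
  obtain ⟨u, hu⟩ := exists_prime_orderOf_dvd_card' 2 h2
  obtain ⟨c, hc⟩ := isConj_iff.1 (D.conj_z (u : G) (by rw [Subgroup.orderOf_coe]; exact hu))
  refine normalClosure_le_normal (Set.singleton_subset_iff.2 ?_)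
  have h := D.K_normal.conj_mem _ u.2 c⁻¹
  rw [← hc] at h
  simpa [mul_assoc] using h

theorem two_dvd_index_L : 2 ∣ D.L.index := D.K_index ▸ index_dvd_of_le D.L_le_K

theorem x_notMem_K : D.x ∉ D.K := by
  intro hx
  haveI : Fact (Nat.Prime 2) := ⟨Nat.prime_two⟩
  have hy : D.y ∈ D.K := D.L_le_K (D.invol_mem_L D.y_order)
  have hle : (D.S : Subgroup G) ≤ D.K := fun s hs => by
    obtain ⟨i, rfl | rfl⟩ := D.cases_S s hs
    · exact pow_mem hx _
    · exact mul_mem (pow_mem hx _) hy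
  exact D.S.not_dvd_index (D.K_index.symm.dvd.trans (index_dvd_of_le hle))

theorem mem_cases {s : G} (hs : s ∈ (D.S : Subgroup G)) (hL : s ∈ D.L) :
    ∃ i : ℕ, s = (D.x ^ 2) ^ i ∨ s = (D.x ^ 2) ^ i * D.y := by
  have hy : D.y ∈ D.K := D.L_le_K (D.invol_mem_L D.y_order)
  have hsK := D.L_le_K hL
  obtain ⟨j, hj⟩ := D.cases_S s hs
  have hjK : D.x ^ j ∈ D.K := by
    rcases hj with rfl | rfl
    · exact hsK
    · exact (Subgroup.mul_mem_cancel_right _ hy).1 hsK
  rcases Nat.even_or_odd' j with ⟨e, rfl | rfl⟩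
  · exact ⟨e, by rwa [← pow_mul]⟩
  · refine absurd ?_ D.x_notMem_K
    rw [pow_succ, pow_mul] at hjK
    exact (Subgroup.mul_mem_cancel_left _ (pow_mem (D.L_le_K D.sq_mem_L) e)).1 hjK

theorem conj_sq (i : ℕ) : D.y * (D.x ^ 2) ^ i * D.y⁻¹ = ((D.x ^ 2) ^ i)⁻¹ := by
  rw [← conj_pow, ← conj_pow, D.yxy, (D.z_comm_x.inv_right).mul_pow, pow_two d.z, zz (d := d),
    one_mul, inv_pow, inv_pow]

/-- The reflections. -/
def refl (i : ℕ) : G := (D.x ^ 2) ^ i * D.y

theorem refl_conj (i j : ℕ) : D.refl i * (D.x ^ 2) ^ j * (D.refl i)⁻¹ = ((D.x ^ 2) ^ j)⁻¹ := by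
  rw [refl, mul_inv_rev, show (D.x ^ 2) ^ i * D.y * (D.x ^ 2) ^ j * (D.y⁻¹ * ((D.x ^ 2) ^ i)⁻¹)
    = (D.x ^ 2) ^ i * (D.y * (D.x ^ 2) ^ j * D.y⁻¹) * ((D.x ^ 2) ^ i)⁻¹ by simp [mul_assoc],
    D.conj_sq, ((Commute.refl (D.x ^ 2)).pow_pow i j).inv_right.eq, mul_inv_cancel_right]

theorem refl_sq (i : ℕ) : D.refl i * D.refl i = 1 := by
  have h : D.y * (D.x ^ 2) ^ i = ((D.x ^ 2) ^ i)⁻¹ * D.y :=
    mul_inv_eq_iff_eq_mul.1 (D.conj_sq i)
  rw [refl, mul_assoc, ← mul_assoc D.y, h, mul_assoc, D.y_sq, mul_one, mul_inv_cancel]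

theorem refl_notMem (i : ℕ) : D.refl i ∉ zpowers D.x := fun h =>
  D.y_ne ((Subgroup.mul_mem_cancel_left _ (pow_mem (pow_mem (mem_zpowers _) _) _)).1 h)

theorem refl_order (i : ℕ) : orderOf (D.refl i) = 2 :=
  orderOf_eq_prime (by rw [pow_two]; exact D.refl_sq i) fun e => D.refl_notMem i (e ▸ one_mem _)

theorem refl_mem_S (i : ℕ) : D.refl i ∈ (D.S : Subgroup G) :=
  mul_mem (pow_mem (pow_mem D.x_mem _) _) D.y_mem

theorem refl_mem_L (i : ℕ) : D.refl i ∈ D.L := D.invol_mem_L (D.refl_order i)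

theorem refl_ne_z (i : ℕ) : D.refl i ≠ d.z := fun h =>
  D.refl_notMem i (h ▸ D.z_eq ▸ pow_mem (mem_zpowers _) _)

theorem invol_cases {t : G} (hS : t ∈ (D.S : Subgroup G)) (ht : orderOf t = 2) :
    t = d.z ∨ ∃ i, t = D.refl i := by
  obtain ⟨i, h | h⟩ := D.mem_cases hS (D.invol_mem_L ht)
  · have h' : t = D.x ^ (2 * i) := by rw [h, ← pow_mul]
    have htt : t * t = 1 := by rw [← pow_two, ← ht, pow_orderOf_eq_one]
    rcases pow_eq_one_or_of_sq D.x_order (j := 2 * i) (by rw [← h', htt]) with e | e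
    · rw [h', e, orderOf_one] at ht; omega
    · exact Or.inl (by rw [h', e, D.z_eq])
  · exact Or.inr ⟨i, h⟩

theorem x4_ne : D.x ^ 4 ≠ 1 := by
  intro e
  have h := Nat.le_of_dvd (by norm_num) (D.x_order ▸ orderOf_dvd_of_pow_eq_one e)
  have : 2 ^ 3 ≤ 2 ^ (D.m + 3) := Nat.pow_le_pow_right (by norm_num) (by omega)
  omega

theorem refl_not_comm_sq (i : ℕ) : ¬ D.refl i * D.x ^ 2 = D.x ^ 2 * D.refl i := by
  intro hc
  have h := D.refl_conj i 1
  rw [pow_one, hc, mul_inv_cancel_right, eq_inv_iff_mul_eq_one, ← pow_add] at h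
  exact D.x4_ne h

theorem eq_z_of_comm {t : G} (hS : t ∈ (D.S : Subgroup G)) (ht : orderOf t = 2)
    (hc : t * D.x ^ 2 = D.x ^ 2 * t) : t = d.z := by
  rcases D.invol_cases hS ht with h | ⟨i, rfl⟩
  · exact h
  · exact absurd hc (D.refl_not_comm_sq i)

/-- A rotation of order `4`. -/
def kk : G := D.x ^ (2 ^ (D.m + 1))

theorem kk_eq : D.kk = (D.x ^ 2) ^ (2 ^ D.m) := by
  rw [kk, ← pow_mul, pow_succ']

theorem kk_mem_L : D.kk ∈ D.L := D.kk_eq ▸ pow_mem D.sq_mem_L _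

theorem kk_sq : D.kk * D.kk = d.z := by
  rw [kk, ← pow_add, D.z_eq, show 2 ^ (D.m + 1) + 2 ^ (D.m + 1) = 2 ^ (D.m + 2) by ring]

theorem kk_order : orderOf D.kk = 4 := by
  haveI : Fact (Nat.Prime 2) := ⟨Nat.prime_two⟩
  refine orderOf_eq_prime_pow (n := 1) (p := 2) ?_ ?_
  · rw [pow_one, pow_two, D.kk_sq]; exact z_ne_one
  · rw [show 2 ^ (1 + 1) = 2 + 2 by norm_num, pow_add, pow_two, D.kk_sq, zz]

theorem refl_kk (i : ℕ) : D.kk * D.refl i * D.kk⁻¹ = d.z * D.refl i := by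
  have h : D.refl i * D.kk * (D.refl i)⁻¹ = D.kk⁻¹ := D.kk_eq.symm ▸ D.refl_conj i _
  rw [mul_assoc, show D.refl i * D.kk⁻¹ = D.kk * D.refl i by
    rw [mul_inv_eq_iff_eq_mul] at h
    rw [eq_comm, ← eq_inv_mul_iff_mul_eq, ← mul_assoc, ← h, mul_assoc, mul_inv_cancel, mul_one],
    ← mul_assoc, D.kk_sq]

theorem OddC.conj {D : DihCoords d} {g : G} (h : D.OddC g) {c : G} (hc : c * d.z = d.z * c) :
    D.OddC (c * g * c⁻¹) := by
  refine ⟨D.L_normal.conj_mem _ h.1 c, ?_, ?_⟩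
  · have h1 : Commute c d.z := hc
    have h2 : Commute g d.z := h.2.1
    exact ((h1.mul_left h2).mul_left h1.inv_left).eq
  · have : orderOf (c * g * c⁻¹) = orderOf g := H28.orderOf_conj_eq c g
    rw [this]; exact h.2.2

/-- The Sylow `2`-subgroup of the normal closure. -/
theorem exists_sylow_L : ∃ P : Sylow 2 ↥D.L,
    ∀ s : ↥D.L, s ∈ (P : Subgroup ↥D.L) ↔ (s : G) ∈ (D.S : Subgroup G) := by
  haveI : Fact (Nat.Prime 2) := ⟨Nat.prime_two⟩
  have h := H33.ProductFusion.odd_relIndex_inf_normal D.S D.L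
  rw [inf_relIndex_right] at h
  have hp : IsPGroup 2 ↥((D.S : Subgroup G).subgroupOf D.L) :=
    D.S.isPGroup'.comap_of_injective D.L.subtype D.L.subtype_injective
  obtain ⟨k, hk⟩ := IsPGroup.iff_card.1 hp
  refine ⟨Sylow.ofCard _ ?_, fun s => by rw [Sylow.coe_ofCard, mem_subgroupOf]⟩
  have hm := ((D.S : Subgroup G).subgroupOf D.L).card_mul_index
  have hodd : ¬ 2 ∣ ((D.S : Subgroup G).subgroupOf D.L).index := Nat.two_dvd_ne_zero.2
    (Nat.odd_iff.1 h)
  rw [hk, ← hm, Nat.factorization_mul Nat.card_pos.ne' index_ne_zero_of_finite, hk,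
    Nat.Prime.factorization_pow Nat.prime_two]
  simp [Nat.factorization_eq_zero_of_not_dvd hodd]

/-- The Sylow `2`-subgroup of the normal closure is dihedral. -/
theorem sylow_dihedral (P : Sylow 2 ↥D.L)
    (hP : ∀ s : ↥D.L, s ∈ (P : Subgroup ↥D.L) ↔ (s : G) ∈ (D.S : Subgroup G)) :
    Nonempty (↥(P : Subgroup ↥D.L) ≃* DihedralGroup (2 ^ (D.m + 2))) := by
  set a : ↥D.L := ⟨D.refl 1, D.refl_mem_L 1⟩ with ha
  set b : ↥D.L := ⟨D.refl 0, D.refl_mem_L 0⟩ with hb
  have hab : ((a * b : ↥D.L) : G) = D.x ^ 2 := by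
    simp [ha, hb, refl, mul_assoc, D.y_sq]
  have hord : orderOf (a * b) = 2 ^ (D.m + 2) := by
    rw [← Subgroup.orderOf_coe, hab, orderOf_pow_of_dvd (by norm_num)
      (by rw [D.x_order]; exact dvd_pow_self 2 (by omega)), D.x_order, pow_succ]
    simp
  have hne : a ≠ b := fun e => by
    rw [e, show b * b = 1 from Subtype.ext (D.refl_sq 0), orderOf_one] at hord
    have : 2 ≤ 2 ^ (D.m + 2) := Nat.le_self_pow (by omega) 2
    omega
  obtain ⟨e⟩ := Cfsg.Agent.S0206.result a b (by rw [← Subgroup.orderOf_coe]; exact D.refl_order 1)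
    (by rw [← Subgroup.orderOf_coe]; exact D.refl_order 0) hne
  rw [hord] at e
  have heq : (P : Subgroup ↥D.L) = closure {a, b} := by
    refine le_antisymm (fun s hs => ?_) ((closure_le _).2 ?_)
    · have haS : a ∈ closure ({a, b} : Set ↥D.L) := subset_closure (by simp)
      have hbS : b ∈ closure ({a, b} : Set ↥D.L) := subset_closure (by simp)
      obtain ⟨i, hi | hi⟩ := D.mem_cases ((hP s).1 hs) s.2
      · have : s = (a * b) ^ i := Subtype.ext (by rw [hi, ← hab]; rfl)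
        exact this ▸ pow_mem (mul_mem haS hbS) i
      · have : s = (a * b) ^ i * b := Subtype.ext (by
          rw [hi, ← hab]; simp [hb, refl])
        exact this ▸ mul_mem (pow_mem (mul_mem haS hbS) i) hbS
    · rintro w (rfl | rfl)
      · exact (hP _).2 (D.refl_mem_S 1)
      · exact (hP _).2 (D.refl_mem_S 0)
  exact ⟨(MulEquiv.subgroupCongr heq).trans e⟩

/-- The odd part of the centralizer of `z` in the normal closure. -/
theorem exists_oddCore : ∃ O : Subgroup G, (∀ g, g ∈ O ↔ D.OddC g) ∧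
    ∃ N : Subgroup ↥(centralizer ({(⟨d.z, D.z_mem_L⟩ : ↥D.L)} : Set ↥D.L)),
      (N = Cfsg.oddCore _) ∧ O = (N.map (Subgroup.subtype _)).map D.L.subtype := by
  haveI : Fact (Nat.Prime 2) := ⟨Nat.prime_two⟩
  obtain ⟨P, hP⟩ := D.exists_sylow_L
  have hzo : orderOf (⟨d.z, D.z_mem_L⟩ : ↥D.L) = 2 := by
    rw [← Subgroup.orderOf_coe]; exact d.z_order
  obtain ⟨e⟩ := D.sylow_dihedral P hP
  obtain ⟨N, hN, hNo, k, hk⟩ := Cfsg.Agent.S0514.result P (2 ^ (D.m + 2))
    (by have : 1 ≤ 2 ^ D.m := Nat.one_le_pow _ _ (by norm_num); rw [pow_add]; omega)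
    ⟨e⟩ _ hzo
  haveI := hN
  have hmem : ∀ c, c ∈ N ↔ Odd (orderOf c) := by
    refine fun c => ⟨fun hc => ?_, fun hc => ?_⟩
    · exact hNo.of_dvd_nat (by
        have := orderOf_dvd_natCard (⟨c, hc⟩ : ↥N)
        rwa [← Subgroup.orderOf_coe] at this)
    · rw [← QuotientGroup.eq_one_iff, ← orderOf_eq_one_iff]
      have h1 : orderOf (c : _ ⧸ N) ∣ orderOf c := orderOf_map_dvd (QuotientGroup.mk' N) c
      have h2 : orderOf (c : _ ⧸ N) ∣ 2 ^ k := hk ▸ N.index_eq_card ▸ orderOf_dvd_natCard _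
      refine Nat.eq_one_of_dvd_coprimes (Nat.Coprime.pow_right k ?_) h1 h2
      exact Nat.coprime_two_right.2 hc
  have hNeq : N = Cfsg.oddCore _ := by
    refine le_antisymm (H19.le_pPrimeCore hN (Nat.coprime_two_right.2 hNo)) fun c hc => ?_
    refine (hmem c).2 ((Nat.coprime_two_right.1 (H19.pPrimeCore_coprime (G := ↥(centralizer ({(⟨d.z, D.z_mem_L⟩ : ↥D.L)} : Set ↥D.L))) 2)).of_dvd_nat ?_)
    have := orderOf_dvd_natCard (⟨c, hc⟩ : ↥(Cfsg.oddCore _))
    rwa [← Subgroup.orderOf_coe] at this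
  refine ⟨(N.map (Subgroup.subtype _)).map D.L.subtype, fun g => ?_, N, hNeq, rfl⟩
  constructor
  · rintro ⟨l, ⟨c, hc, rfl⟩, rfl⟩
    refine ⟨(c.1).2, ?_, ?_⟩
    · exact congrArg Subtype.val (mem_centralizer_singleton_iff.1 c.2)
    · simpa [Subgroup.orderOf_coe] using (hmem c).1 hc
  · rintro ⟨hL, hz, hodd⟩
    have hC : (⟨g, hL⟩ : ↥D.L) ∈ centralizer ({(⟨d.z, D.z_mem_L⟩ : ↥D.L)} : Set ↥D.L) :=
      mem_centralizer_singleton_iff.2 (Subtype.ext hz)
    refine ⟨⟨g, hL⟩, ⟨⟨_, hC⟩, (hmem _).2 ?_, rfl⟩, rfl⟩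
    rwa [← Subgroup.orderOf_coe, ← Subgroup.orderOf_coe]

theorem comm_kk {g : G} (hg : D.OddC g) : g * D.kk = D.kk * g := by
  haveI : Fact (Nat.Prime 2) := ⟨Nat.prime_two⟩
  obtain ⟨O, hO, -⟩ := D.exists_oddCore
  have ha : D.x ^ (2 ^ D.m) ∈ centralizer ({d.z} : Set G) :=
    mem_centralizer_singleton_iff.2 (D.z_comm_x.pow_right _).eq.symm
  have hk : (D.x ^ (2 ^ D.m)) ^ 2 = D.kk := by rw [kk, ← pow_mul, pow_succ]
  rw [← hk]
  refine d.oddRot _ ha ?_ O ?_ ?_ ?_ g ((hO g).2 hg)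
  · rw [← pow_mul, D.z_eq, show 2 ^ D.m * 4 = 2 ^ (D.m + 2) by ring]
  · exact fun w hw => mem_centralizer_singleton_iff.2 ((hO w).1 hw).2.1
  · refine Nat.not_even_iff_odd.1 fun he => ?_
    obtain ⟨w, hw⟩ := exists_prime_orderOf_dvd_card' 2 (even_iff_two_dvd.1 he)
    have := ((hO w.1).1 w.2).2.2
    rw [Subgroup.orderOf_coe, hw] at this
    exact absurd this (by decide)
  · intro c hc w hw
    exact (hO _).2 (((hO w).1 hw).conj (mem_centralizer_singleton_iff.1 hc))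

theorem eq_one_of_fixed (i : ℕ) {g : G} (hg : D.OddC g) (hu : g * D.refl i = D.refl i * g) :
    g = 1 := by
  have hzu : D.refl i * d.z = d.z * D.refl i := D.central _ (D.refl_mem_S i)
  obtain ⟨c, hc⟩ := isConj_iff.1 (D.conj_z _ (D.refl_order i))
  have hSle : (D.S : Subgroup G) ≤ centralizer ({d.z} : Set G) := fun s hs =>
    mem_centralizer_singleton_iff.2 (D.central s hs)
  have ht : orderOf (c⁻¹ * d.z * c) = 2 := by
    have := H28.orderOf_conj_eq c⁻¹ d.z
    rw [inv_inv] at this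
    rw [this, d.z_order]
  have htC : c⁻¹ * d.z * c ∈ centralizer ({d.z} : Set G) := by
    refine mem_centralizer_singleton_iff.2 ?_
    have := congrArg (fun w => c⁻¹ * w * c) hzu.symm
    simpa [← hc, mul_assoc] using this
  obtain ⟨h, hh, hS⟩ := exists_conj_mem_sylow_two D.S _ hSle ht htC
  set b := c * h⁻¹ with hb
  have hhz : Commute h d.z := mem_centralizer_singleton_iff.1 hh
  have hbz : b * d.z * b⁻¹ = D.refl i := by
    rw [hb, mul_inv_rev, inv_inv, mul_assoc c, ← hc]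
    rw [(hhz.inv_left).eq]; simp [mul_assoc]
  have hS' : b⁻¹ * d.z * b ∈ (D.S : Subgroup G) := by
    simpa [hb, mul_assoc] using hS
  have ho : orderOf (b⁻¹ * d.z * b) = 2 := by
    have := H28.orderOf_conj_eq b⁻¹ d.z
    rw [inv_inv] at this
    rw [this, d.z_order]
  obtain ⟨j, hj⟩ : ∃ j, b⁻¹ * d.z * b = D.refl j := by
    refine (D.invol_cases hS' ho).resolve_left fun e => D.refl_ne_z i ?_
    calc D.refl i = b * d.z * b⁻¹ := hbz.symm
      _ = b * (b⁻¹ * d.z * b) * b⁻¹ := by rw [e]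
      _ = d.z := by simp [mul_assoc]
  have hkz : Commute D.kk d.z := by
    rw [← D.kk_sq]; exact (Commute.refl _).mul_right (Commute.refl _)
  refine d.fourFix (D.refl i) D.kk (b * D.kk * b⁻¹) g (D.refl_order i) (D.refl_ne_z i) hzu.symm
    hkz.eq (D.refl_kk i) ?_ ?_ hg.2.2 hg.2.1 hu (D.comm_kk hg) ?_
  · rw [← hbz]
    exact (hkz.map (MulAut.conj b).toMonoidHom).eq
  · calc b * D.kk * b⁻¹ * d.z * (b * D.kk * b⁻¹)⁻¹
        = b * (D.kk * (b⁻¹ * d.z * b) * D.kk⁻¹) * b⁻¹ := by simp [mul_assoc]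
      _ = b * (d.z * D.refl j) * b⁻¹ := by rw [hj, D.refl_kk]
      _ = (b * d.z * b⁻¹) * d.z := by rw [← hj]; simp [mul_assoc]
      _ = d.z * D.refl i := by rw [hbz, hzu]
  · have hg' : D.OddC (b⁻¹ * g * b) := by
      refine ⟨by simpa using D.L_normal.conj_mem _ hg.1 b⁻¹, ?_, ?_⟩
      · rw [← hbz] at hu
        have := congrArg (fun w => b⁻¹ * w * b) hu
        simpa [mul_assoc] using this
      · have := H28.orderOf_conj_eq b⁻¹ g
        rw [inv_inv] at this
        rw [this]; exact hg.2.2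
    have := congrArg (fun w => b * w * b⁻¹) (D.comm_kk hg')
    simpa [mul_assoc] using this

theorem refl_inverts (i : ℕ) {g : G} (hg : D.OddC g) : D.refl i * g * (D.refl i)⁻¹ = g⁻¹ := by
  obtain ⟨O, hO, -⟩ := D.exists_oddCore
  refine conj_eq_inv_of_fpf O (D.refl_sq i) (fun w hw => (hO _).2 ?_)
    (fun w hw h => D.eq_one_of_fixed i ((hO w).1 hw) h.symm) g ((hO g).2 hg)
  exact ((hO w).1 hw).conj (D.central _ (D.refl_mem_S i))

theorem sq_comm {g : G} (hg : D.OddC g) (i : ℕ) : (D.x ^ 2) ^ i * g = g * (D.x ^ 2) ^ i := by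
  refine (Commute.pow_left (show Commute (D.x ^ 2) g from ?_) i).eq
  have h1 := D.refl_inverts 1 hg
  have h0 := D.refl_inverts 0 hg
  have he : D.x ^ 2 = D.refl 1 * (D.refl 0)⁻¹ := by simp [refl]
  rw [commute_iff_eq, ← mul_inv_eq_iff_eq_mul, he]
  have h0' : (D.refl 0)⁻¹ * g * D.refl 0 = g⁻¹ := by
    have hi : (D.refl 0)⁻¹ = D.refl 0 := inv_eq_of_mul_eq_one_right (D.refl_sq 0)
    rw [hi] at h0 ⊢; exact h0
  calc D.refl 1 * (D.refl 0)⁻¹ * g * (D.refl 1 * (D.refl 0)⁻¹)⁻¹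
      = D.refl 1 * ((D.refl 0)⁻¹ * g * D.refl 0) * (D.refl 1)⁻¹ := by simp [mul_assoc]
    _ = (D.refl 1 * g * (D.refl 1)⁻¹)⁻¹ := by rw [h0']; simp [mul_assoc]
    _ = g := by rw [h1, inv_inv]

theorem sq_mem_S (i : ℕ) : (D.x ^ 2) ^ i ∈ (D.S : Subgroup G) :=
  pow_mem (pow_mem D.x_mem _) _

/-- The normal closure of `z` is simple. -/
theorem isSimpleGroup_L : IsSimpleGroup ↥D.L := by
  haveI : Fact (Nat.Prime 2) := ⟨Nat.prime_two⟩
  obtain ⟨P, hP⟩ := D.exists_sylow_L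
  set zL : ↥D.L := ⟨d.z, D.z_mem_L⟩ with hzL
  haveI : Nontrivial ↥D.L :=
    ⟨⟨zL, 1, fun e => z_ne_one (d := d) (congrArg Subtype.val e)⟩⟩
  refine ⟨fun N hN => ?_⟩
  by_cases hodd : Odd (Nat.card ↥N)
  · left
    haveI : (Cfsg.pPrimeCore 2 ↥D.L).Characteristic := H19.pPrimeCore_characteristic 2 ↥D.L
    have hcard : Odd (Nat.card ↥((Cfsg.pPrimeCore 2 ↥D.L).map D.L.subtype)) := by
      rw [card_map_of_injective D.L.subtype_injective]
      exact Nat.coprime_two_right.1 (H19.pPrimeCore_coprime (G := ↥D.L) 2)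
    have hbot := d.noSolvable _ inferInstance (H25.PF14.odd_solvable _ hcard)
    rw [map_eq_bot_iff_of_injective _ D.L.subtype_injective] at hbot
    exact le_bot_iff.1 (hbot ▸ H19.le_pPrimeCore hN (Nat.coprime_two_right.2 hodd))
  right
  obtain ⟨t, ht⟩ := exists_prime_orderOf_dvd_card' 2
    (even_iff_two_dvd.1 (Nat.not_odd_iff_even.1 hodd))
  have htL : orderOf (t : ↥D.L) = 2 := by rw [Subgroup.orderOf_coe]; exact ht
  obtain ⟨c, -, hc⟩ := exists_conj_mem_sylow_two P ⊤ le_top htL (mem_top _)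
  set t' : ↥D.L := c * (t : ↥D.L) * c⁻¹ with ht'
  have ht'N : t' ∈ N := hN.conj_mem _ t.2 c
  have ht'o : orderOf (t' : G) = 2 := by
    rw [Subgroup.orderOf_coe, ht', H28.orderOf_conj_eq, htL]
  have hzN : zL ∈ N := by
    rcases D.invol_cases ((hP _).1 hc) ht'o with h | ⟨i, h⟩
    · have e : t' = zL := Subtype.ext h
      exact e ▸ ht'N
    · set a : ↥D.L := ⟨D.x ^ 2, D.sq_mem_L⟩ with ha
      have h4 : a * t' * a⁻¹ * t'⁻¹ ∈ N := mul_mem (hN.conj_mem _ ht'N a) (inv_mem ht'N)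
      have he : ((a * t' * a⁻¹ * t'⁻¹ : ↥D.L) : G) = D.x ^ 4 := by
        have hr := D.refl_conj i 1
        rw [pow_one] at hr
        have hr' : D.refl i * (D.x ^ 2)⁻¹ * (D.refl i)⁻¹ = D.x ^ 2 := by
          have := congrArg (·⁻¹) hr
          simpa [mul_assoc] using this
        calc ((a * t' * a⁻¹ * t'⁻¹ : ↥D.L) : G)
            = D.x ^ 2 * (D.refl i * (D.x ^ 2)⁻¹ * (D.refl i)⁻¹) := by
              simp [ha, h, mul_assoc]
          _ = D.x ^ 4 := by rw [hr', ← pow_add]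
      have hz4 : zL = (a * t' * a⁻¹ * t'⁻¹) ^ (2 ^ D.m) := Subtype.ext (by
        rw [SubgroupClass.coe_pow, he, ← pow_mul]
        simp only [hzL]
        rw [D.z_eq, show 4 * 2 ^ D.m = 2 ^ (D.m + 2) by ring])
      exact hz4 ▸ pow_mem h4 _
  -- all conjugates of `z` in `G` are conjugates in `L`
  have key : ∀ g : G, ∃ w ∈ N, (w : G) = g * d.z * g⁻¹ := by
    intro g
    have hg : g ∈ normalizer ((P : Subgroup ↥D.L).map D.L.subtype : Set G) ⊔ D.L := by
      rw [Sylow.normalizer_sup_eq_top]; exact mem_top g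
    rw [sup_comm, mem_sup_of_normal_left] at hg
    obtain ⟨l, hl, h, hh, rfl⟩ := hg
    have hzP : zL ∈ (P : Subgroup ↥D.L) := (hP _).2 D.z_mem_S
    have haP : (⟨D.x ^ 2, D.sq_mem_L⟩ : ↥D.L) ∈ (P : Subgroup ↥D.L) :=
      (hP _).2 (pow_mem D.x_mem 2)
    have hhz : h * d.z * h⁻¹ = d.z := by
      obtain ⟨w, hw, hw'⟩ := (mem_normalizer_iff.1 hh d.z).1 ⟨zL, hzP, rfl⟩
      obtain ⟨v, hv, hv'⟩ := (mem_normalizer_iff.1 hh (h⁻¹ * D.x ^ 2 * h)).2
        (by simpa [mul_assoc] using Subgroup.mem_map_of_mem D.L.subtype haP)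
      have hwS : h * d.z * h⁻¹ ∈ (D.S : Subgroup G) := hw' ▸ (hP w).1 hw
      have hvS : h⁻¹ * D.x ^ 2 * h ∈ (D.S : Subgroup G) := hv' ▸ (hP v).1 hv
      refine D.eq_z_of_comm hwS (by rw [H28.orderOf_conj_eq, d.z_order]) ?_
      have := congrArg (fun w => h * w * h⁻¹) (D.central _ hvS).symm
      simpa [mul_assoc] using this
    refine ⟨⟨l, hl⟩ * zL * (⟨l, hl⟩ : ↥D.L)⁻¹, hN.conj_mem _ hzN _, ?_⟩
    calc ((⟨l, hl⟩ * zL * (⟨l, hl⟩ : ↥D.L)⁻¹ : ↥D.L) : G) = l * (h * d.z * h⁻¹) * l⁻¹ := by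
          simp [hzL, hhz]
      _ = l * h * d.z * (l * h)⁻¹ := by simp [mul_assoc]
  have hle : D.L ≤ N.map D.L.subtype := by
    change normalClosure {d.z} ≤ _
    rw [normalClosure, closure_le]
    intro w hw
    obtain ⟨w', rfl, hconj⟩ := Group.mem_conjugatesOfSet_iff.1 hw
    obtain ⟨g, rfl⟩ := isConj_iff.1 hconj
    obtain ⟨v, hv, hv'⟩ := key g
    exact ⟨v, hv, hv'⟩
  rw [eq_top_iff]
  intro l _
  obtain ⟨v, hv, hv'⟩ := hle l.2
  exact (Subtype.ext hv' : v = l) ▸ hv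

theorem R_le_L : d.R ≤ D.L := by
  intro r hr
  have h1 : r * d.z * r⁻¹ * d.z⁻¹ ∈ D.L :=
    mul_mem (D.L_normal.conj_mem _ D.z_mem_L r) (inv_mem D.z_mem_L)
  have h2 : d.z * r⁻¹ * d.z⁻¹ = r := by
    have := congrArg (·⁻¹) (d.R_inv r hr)
    simpa [mul_assoc] using this
  rw [show r * d.z * r⁻¹ * d.z⁻¹ = r * (d.z * r⁻¹ * d.z⁻¹) by simp [mul_assoc], h2] at h1
  have h4 : r * r * (r * r) = r := by
    have h3 : r * r * r = 1 := by rw [← pow_two, ← pow_succ]; exact d.R_three r hr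
    rw [← mul_assoc, h3, one_mul]
  exact h4 ▸ mul_mem h1 h1

/-- Brauer–Suzuki–Wall: the normal closure of `z` has order `360` and no elements of order `20`. -/
theorem L_facts : Nat.card ↥D.L = 360 ∧ ∀ w : ↥D.L, orderOf w ≠ 20 := by
  haveI : Fact (Nat.Prime 2) := ⟨Nat.prime_two⟩
  haveI := D.isSimpleGroup_L
  obtain ⟨P, hP⟩ := D.exists_sylow_L
  obtain ⟨O, hO, N, hN, hON⟩ := D.exists_oddCore
  subst hN
  set C := centralizer ({(⟨d.z, D.z_mem_L⟩ : ↥D.L)} : Set ↥D.L) with hC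
  set OL := (Cfsg.oddCore ↥C).map C.subtype with hOL
  have hmem : ∀ w : ↥D.L, w ∈ OL ↔ D.OddC (w : G) := fun w => by
    rw [← hO, hON]
    exact ⟨fun h => Subgroup.mem_map_of_mem D.L.subtype h,
      fun ⟨v, hv, hv'⟩ => (Subtype.ext hv' : v = w) ▸ hv⟩
  set a : ↥D.L := ⟨D.x ^ 2, D.sq_mem_L⟩ with ha
  have hao : orderOf a = 2 ^ (D.m + 2) := by
    rw [← Subgroup.orderOf_coe, ha, orderOf_pow_of_dvd (by norm_num)
      (by rw [D.x_order]; exact dvd_pow_self 2 (by omega)), D.x_order, pow_succ]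
    simp
  have hcases : ∀ s ∈ (P : Subgroup ↥D.L),
      s ∈ zpowers a ∨ ∃ i, (s : G) = D.refl i := by
    intro s hs
    obtain ⟨i, h | h⟩ := D.mem_cases ((hP s).1 hs) s.2
    · left
      have : s = a ^ i := Subtype.ext (by rw [h]; rfl)
      exact this ▸ pow_mem (mem_zpowers a) i
    · exact Or.inr ⟨i, h⟩
  have hcomm : ∀ s ∈ zpowers a, ∀ w ∈ OL, w * s = s * w := by
    intro s hs w hw
    obtain ⟨i, rfl⟩ := (isOfFinOrder_of_finite a).mem_powers_iff_mem_zpowers.2 hs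
    exact Subtype.ext (D.sq_comm ((hmem w).1 hw) i).symm
  have h2m : 2 ≤ 2 ^ (D.m + 2) := Nat.le_self_pow (by omega) 2
  obtain ⟨e⟩ := D.sylow_dihedral P hP
  obtain ⟨F, _, _, hodd, ⟨ePSL⟩⟩ := Cfsg.Agent.S0508.result P (2 ^ (D.m + 2)) h2m ⟨e⟩
    ⟨d.z, D.z_mem_L⟩ (by rw [← Subgroup.orderOf_coe]; exact d.z_order) ((hP _).2 D.z_mem_S)
    (fun s hs => Subtype.ext (D.central _ ((hP s).1 hs))) OL hOL
    (fun hne => by
      obtain ⟨w, hw, hw1⟩ := OL.bot_or_exists_ne_one.resolve_left hne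
      have heq : (P : Subgroup ↥D.L) ⊓ centralizer (OL : Set ↥D.L) = zpowers a := by
        refine le_antisymm (fun s hs => ?_) (zpowers_le.2 ⟨(hP _).2 (pow_mem D.x_mem 2),
          mem_centralizer_iff.2 fun v hv => hcomm a (mem_zpowers a) v hv⟩)
        refine (hcases s hs.1).resolve_right fun ⟨i, hi⟩ => hw1 ?_
        have h := congrArg Subtype.val (mem_centralizer_iff.1 hs.2 w hw)
        simp only [Subgroup.coe_mul, hi] at h
        exact Subtype.ext (D.eq_one_of_fixed i ((hmem w).1 hw) h)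
      rw [heq]
      refine ⟨inferInstance, ?_⟩
      have hcP : Nat.card ↥(P : Subgroup ↥D.L) = 2 * 2 ^ (D.m + 2) := by
        rw [Nat.card_congr e.toEquiv, DihedralGroup.nat_card]
      have hle : zpowers a ≤ (P : Subgroup ↥D.L) := heq ▸ inf_le_left
      have := relIndex_mul_relIndex ⊥ (zpowers a) (P : Subgroup ↥D.L) bot_le hle
      rw [relIndex_bot_left, relIndex_bot_left, Nat.card_zpowers, hao, hcP, mul_comm 2] at this
      exact Nat.eq_of_mul_eq_mul_left (by positivity) this)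
    (fun s hs hns v hv => by
      rcases hcases s hs with h | ⟨i, hi⟩
      · exact absurd (mem_centralizer_iff.2 fun w hw => hcomm s h w hw) hns
      · refine Subtype.ext ?_
        simp only [Subgroup.coe_mul, Subgroup.coe_inv, hi]
        exact D.refl_inverts i ((hmem v).1 hv))
    (fun Y hY hne g hg => by
      obtain ⟨y0, hy0, hy1⟩ := Y.bot_or_exists_ne_one.resolve_left hne
      refine mem_centralizer_singleton_iff.2 (Subtype.ext ?_)
      have hy := (hmem _).1 (hY hy0)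
      have hgy : D.OddC ((g : G)⁻¹ * y0 * g) := by
        have h : g⁻¹ * y0 * g ∈ Y := by
          have h' := (mem_normalizer_iff.1 (inv_mem hg) y0).1 hy0
          rwa [inv_inv] at h'
        simpa using (hmem _).1 (hY h)
      set b := (g : G) * d.z * (g : G)⁻¹ with hb
      have hby : b * y0 = y0 * b := by
        have := congrArg (fun w => (g : G) * w * (g : G)⁻¹) hgy.2.1.symm
        simpa [hb, mul_assoc] using this
      have hne1 : (y0 : G) ≠ 1 := fun e => hy1 (Subtype.ext e)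
      have hbo : orderOf b = 2 := by rw [hb, H28.orderOf_conj_eq, d.z_order]
      have hbz : d.z * b = b * d.z := d.centAbelian (D.refl 0) y0 (D.refl_order 0)
        (D.central _ (D.refl_mem_S 0)) hy.2.1 hy.2.2 hne1 (D.refl_inverts 0 hy) d.z b d.z_order hbo
        hy.2.1.symm hby
      obtain ⟨c, hc, hcS⟩ := exists_conj_mem_sylow_two D.S (centralizer ({d.z} : Set G))
        (fun s hs => mem_centralizer_singleton_iff.2 (D.central s hs)) hbo
        (mem_centralizer_singleton_iff.2 hbz.symm)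
      have hcz : c * d.z = d.z * c := mem_centralizer_singleton_iff.1 hc
      have hbeq : b = d.z := by
        rcases D.invol_cases hcS (by rw [H28.orderOf_conj_eq, hbo]) with h | ⟨i, h⟩
        · calc b = c⁻¹ * (c * b * c⁻¹) * c := by simp [mul_assoc]
            _ = c⁻¹ * d.z * c := by rw [h]
            _ = d.z := by rw [mul_assoc, ← hcz, inv_mul_cancel_left]
        · refine absurd ?_ hne1
          have hfix : c * (y0 : G) * c⁻¹ = 1 := D.eq_one_of_fixed i (hy.conj hcz) (by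
            rw [← h]
            have := congrArg (fun w => c * w * c⁻¹) hby.symm
            simpa [mul_assoc] using this)
          exact conj_eq_one_iff.1 hfix
      exact mul_inv_eq_iff_eq_mul.1 hbeq)
  refine Cfsg.Agent.H85.C6.psl_facts hodd ePSL (d.R.subgroupOf D.L) ?_ ?_ ?_
  · rw [Nat.card_congr (subgroupOfEquivOfLe D.R_le_L).toEquiv, d.R_card]
  · intro r hr
    exact Subtype.ext (by simpa using d.R_three _ hr)
  · intro A hRA hA
    rw [← card_map_of_injective D.L.subtype_injective (K := A)]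
    refine d.abelianOver _ (fun r hr => ⟨⟨r, D.R_le_L hr⟩, hRA hr, rfl⟩) ?_
    rintro _ ⟨u, hu, rfl⟩ _ ⟨v, hv, rfl⟩
    rw [← map_mul, ← map_mul, hA u hu v hv]

/-- An element of order `5` of the normal closure commutes with no involution. -/
theorem not_comm_five {g : G} (hg : g ∈ D.L) (ho : orderOf g = 5) {t : G} (ht : orderOf t = 2) :
    ¬ g * t = t * g := by
  intro hc
  obtain ⟨c, rfl⟩ := isConj_iff.1 (D.conj_z t ht)
  set g' := c⁻¹ * g * c with hg'
  have ho' : orderOf g' = 5 := by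
    have := H28.orderOf_conj_eq c⁻¹ g
    rw [inv_inv] at this
    rw [hg', this, ho]
  have hoc : D.OddC g' := by
    refine ⟨by simpa [hg'] using D.L_normal.conj_mem _ hg c⁻¹, ?_, by rw [ho']; decide⟩
    have := congrArg (fun w => c⁻¹ * w * c) hc
    simpa [hg', mul_assoc] using this
  have h20 : orderOf (g' * D.kk) = 20 := by
    rw [Commute.orderOf_mul_eq_mul_orderOf_of_coprime (D.comm_kk hoc)
      (by rw [ho', D.kk_order]; norm_num), ho', D.kk_order]
  exact D.L_facts.2 ⟨_, mul_mem hoc.1 D.kk_mem_L⟩ (by rw [← Subgroup.orderOf_coe]; exact h20)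

theorem exists_conj_sq_five (D : DihCoords d) : ∃ g : G, orderOf g = 5 ∧ IsConj g (g ^ 2) := by
  classical
  haveI : Fact (Nat.Prime 2) := ⟨Nat.prime_two⟩
  haveI : Fact (Nat.Prime 5) := ⟨by norm_num⟩
  have h360 := D.L_facts.1
  obtain ⟨g, hg⟩ := exists_prime_orderOf_dvd_card' 5 (G := ↥D.L) (by rw [h360]; norm_num)
  have hgG : orderOf (g : G) = 5 := by rw [Subgroup.orderOf_coe]; exact hg
  have hfac : (360 : ℕ).factorization 5 = 1 := by
    rw [show (360 : ℕ) = 5 ^ 1 * 72 by norm_num, Nat.factorization_mul (by norm_num) (by norm_num),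
      Nat.Prime.factorization_pow (by norm_num)]
    simp [Nat.factorization_eq_zero_of_not_dvd (show ¬ 5 ∣ 72 by norm_num)]
  let P : Sylow 5 ↥D.L := Sylow.ofCard (zpowers g) (by rw [Nat.card_zpowers, hg, h360, hfac, pow_one])
  have hPc : (P : Subgroup ↥D.L) = zpowers g := Sylow.coe_ofCard _ _
  set NG := normalizer (zpowers (g : G) : Set G) with hNG
  have hPmap : (P : Subgroup ↥D.L).map D.L.subtype = zpowers (g : G) := by
    rw [hPc, MonoidHom.map_zpowers]; rfl
  -- the normalizer in `L` has even order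
  set NL := normalizer ((P : Subgroup ↥D.L) : Set ↥D.L) with hNL
  have heven : 2 ∣ Nat.card ↥NL := by
    have h1 : Nat.card (Sylow 5 ↥D.L) = NL.index := P.card_eq_index_normalizer
    have h2 : NL.index ∣ 72 := by
      rw [← h1]
      refine P.card_dvd_index.trans ?_
      have := (P : Subgroup ↥D.L).card_mul_index
      rw [hPc, Nat.card_zpowers, hg, h360] at this
      have e : (zpowers g).index = 72 := by omega
      rw [hPc, e]
    have h3 : NL.index % 5 = 1 := by rw [← h1]; exact card_sylow_modEq_one 5 ↥D.L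
    have h4 := NL.card_mul_index
    rw [h360] at h4
    have h5 : NL.index ∈ Nat.divisors 72 := Nat.mem_divisors.2 ⟨h2, by norm_num⟩
    rw [show Nat.divisors 72 = {1, 2, 3, 4, 6, 8, 9, 12, 18, 24, 36, 72} by decide] at h5
    simp only [Finset.mem_insert, Finset.mem_singleton] at h5
    rcases h5 with h | h | h | h | h | h | h | h | h | h | h | h <;> rw [h] at h3 h4 <;> omega
  have hmap : NL.map D.L.subtype ≤ D.L ⊓ NG := by
    refine le_inf (map_subtype_le _) ?_
    rw [hNG, ← hPmap]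
    exact le_normalizer_map _
  have h4 : 2 ^ 2 ∣ Nat.card ↥NG := by
    have h1 : 2 ∣ Nat.card ↥(D.L ⊓ NG : Subgroup G) := by
      refine heven.trans ?_
      rw [← card_map_of_injective D.L.subtype_injective (K := NL)]
      exact card_dvd_of_le hmap
    have h2 := relIndex_mul_relIndex ⊥ (D.L ⊓ NG) NG bot_le inf_le_right
    rw [relIndex_bot_left, relIndex_bot_left, inf_relIndex_right] at h2
    have h3 : D.L.relIndex NG = D.L.index := by
      have htop : NG ⊔ D.L = ⊤ := by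
        rw [hNG, ← hPmap]; exact Sylow.normalizer_sup_eq_top P
      rw [← relIndex_sup_right, htop, relIndex_top_right]
    rw [← h2, h3, pow_two]
    exact mul_dvd_mul h1 D.two_dvd_index_L
  obtain ⟨T, hT⟩ := Sylow.exists_subgroup_card_pow_prime 2 h4
  have hk : ∀ h : ↥T, ∃ k : Fin 5, ((h : ↥NG) : G) * g * ((h : ↥NG) : G)⁻¹ = (g : G) ^ (k : ℕ) := by
    intro h
    have hm := (mem_normalizer_iff.1 (h : ↥NG).2 (g : G)).1 (mem_zpowers _)
    obtain ⟨k, hk⟩ := (isOfFinOrder_of_finite (g : G)).mem_powers_iff_mem_zpowers.2 hm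
    refine ⟨⟨k % 5, Nat.mod_lt _ (by norm_num)⟩, hk.symm.trans ?_⟩
    have hmod := pow_mod_orderOf (g : G) k
    rw [hgG] at hmod
    exact hmod.symm
  choose k hk using hk
  have hne : ∀ h, k h ≠ 0 := by
    intro h e
    have := hk h
    rw [e, Fin.val_zero, pow_zero, conj_eq_one_iff] at this
    rw [this, orderOf_one] at hgG
    omega
  have hinj : Function.Injective k := by
    intro u v e
    have h := (hk u).trans ((congrArg (fun j : Fin 5 => (g : G) ^ (j : ℕ)) e).trans (hk v).symm)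
    by_contra huv
    set w := v⁻¹ * u with hw
    have hw1 : w ≠ 1 := fun e' => huv (inv_mul_eq_one.1 e').symm
    have hwc : Commute (g : G) ((w : ↥NG) : G) := by
      have := congrArg (fun r => ((v : ↥NG) : G)⁻¹ * r * ((u : ↥NG) : G)) h
      simpa [hw, Commute, SemiconjBy, mul_assoc] using this.symm
    have hT2 : IsPGroup 2 ↥T := IsPGroup.of_card (n := 2) hT
    obtain ⟨j, hj⟩ := IsPGroup.iff_orderOf.1 hT2 w
    have hj0 : j ≠ 0 := by
      rintro rfl
      rw [pow_zero, orderOf_eq_one_iff] at hj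
      exact hw1 hj
    have ho : orderOf (((w : ↥NG) : G) ^ (2 ^ (j - 1))) = 2 := by
      rw [orderOf_pow_of_dvd (by positivity)
        (by rw [Subgroup.orderOf_coe, Subgroup.orderOf_coe, hj]; exact pow_dvd_pow 2 (by omega)),
        Subgroup.orderOf_coe, Subgroup.orderOf_coe, hj, Nat.pow_div (by omega) (by norm_num),
        show j - (j - 1) = 1 by omega, pow_one]
    exact D.not_comm_five g.2 hgG ho (hwc.pow_right _).eq
  obtain ⟨h, hh⟩ : ∃ h, k h = 2 := by
    haveI : Fintype ↥T := Fintype.ofFinite _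
    have hsub : Finset.univ.image k ⊆ (Finset.univ.erase (0 : Fin 5)) := by
      intro j hj
      obtain ⟨h, -, rfl⟩ := Finset.mem_image.1 hj
      exact Finset.mem_erase.2 ⟨hne h, Finset.mem_univ _⟩
    have heq := Finset.eq_of_subset_of_card_le hsub (by
      rw [Finset.card_image_of_injective _ hinj, Finset.card_univ, ← Nat.card_eq_fintype_card, hT,
        Finset.card_erase_of_mem (Finset.mem_univ _), Finset.card_univ, Fintype.card_fin]
      norm_num)
    have : (2 : Fin 5) ∈ Finset.univ.image k := heq ▸ by decide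
    obtain ⟨h, -, hh⟩ := Finset.mem_image.1 this
    exact ⟨h, hh⟩
  refine ⟨g, hgG, isConj_iff.2 ⟨((h : ↥NG) : G), ?_⟩⟩
  rw [hk h, hh]
  rfl

end DihCoords

/-- The dihedral fusion pattern does not occur. -/
theorem LocalData.false_of_dihedralCase {G : Type*} [Group G] [Finite G] (d : LocalData G)
    (h : d.DihedralCase) : False := by
  obtain ⟨D⟩ := nonempty_dihCoords h
  obtain ⟨g, hg, hconj⟩ := D.exists_conj_sq_five
  exact d.five g hg hconj

end Cfsg.Agent.H48.C6Three
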